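import Cfsg.Agent.SpecCrit.Lift
import Cfsg.Agent.SpecCrit.Natural
import Cfsg.Agent.SmallIso.PSLTwo

/-!
# Groups with element orders `{1, 2, 3, 4, 5}` without a proper quotient of the same kind
-/

set_option autoImplicit false

namespace CfsgLib.SpecCrit

open CfsgLib.SpecFive

variable {G : Type*} [Group G] [Finite G]

theorem a5_sq_of_pow_four : ∀ g : A5, g ^ 4 = 1 → g ^ 2 = 1 := by decide +kernel

/-- A proper part of the kernel leaves all five element orders in the quotient. -/
theorem range_orderOf_quotient (hrange : Set.range (orderOf : G → ℕ) = ({1, 2, 3, 4, 5} : Set ℕ))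
    {π : G →* A5} (hπ : Function.Surjective π) (hE : Elem π.ker) {Q : Type*} [Group Q] (q : G →* Q)
    (hq : Function.Surjective q) (hle : q.ker ≤ π.ker) (hne : q.ker ≠ π.ker) :
    Set.range (orderOf : Q → ℕ) = ({1, 2, 3, 4, 5} : Set ℕ) := by
  classical
  have hle5 : ∀ g : G, orderOf g ≤ 5 := fun g => by
    have : orderOf g ∈ ({1, 2, 3, 4, 5} : Set ℕ) := hrange ▸ ⟨g, rfl⟩
    simp only [Set.mem_insert_iff, Set.mem_singleton_iff] at this
    omega
  have hO : Ord5 G := ord5_of_range hle5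
  apply Set.Subset.antisymm
  · rintro _ ⟨w, rfl⟩
    obtain ⟨g, rfl⟩ := hq w
    have hd := orderOf_map_dvd q g
    have h5 := Nat.le_of_dvd (orderOf_pos g) hd
    have h0 : 0 < orderOf (q g) := Nat.pos_of_dvd_of_pos hd (orderOf_pos g)
    have := hle5 g
    simp only [Set.mem_insert_iff, Set.mem_singleton_iff]
    omega
  obtain ⟨r1, r2, r3, -, -, r13, -, h2ne, -, -⟩ := Dickson.alt5Gen_rel
  set a := Dickson.alt5Gen 0 with ha
  set c := Dickson.alt5Gen 2 with hc
  have hane : a ≠ 1 := by rw [ha]; decide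
  have hcne : c ≠ 1 := by rw [hc]; decide
  have hcc : c * c = 1 := by rw [← pow_two]; exact r3
  have hci : c⁻¹ = c := inv_eq_of_mul_eq_one_right hcc
  have hca : c * a * c⁻¹ = a⁻¹ := by
    refine eq_inv_of_mul_eq_one_right ?_
    rw [hci, ← mul_assoc, ← mul_assoc, mul_assoc (a * c), ← pow_two]
    exact r13
  obtain ⟨x, hx⟩ := hπ a
  obtain ⟨t, ht, hinv, ht2⟩ := exists_lift hO hE hπ r1 hane hcc hca hx
  have hker : ∀ g, q g = 1 → π g = 1 := fun g h => hle h
  have hqt : q t ≠ 1 := fun h => hcne (ht.symm.trans (hker t h))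
  -- an element of the kernel moved by the involution modulo the small kernel
  obtain ⟨d, hd, hdt⟩ : ∃ d, π d = 1 ∧ q ((d * t) ^ 2) ≠ 1 := by
    by_contra hall
    push Not at hall
    apply hne
    refine le_antisymm hle fun d hd => ?_
    have hfix : ∀ e ∈ π.ker, Commute (q t) (q e) := by
      intro e he
      have h := hall e he
      rw [pow_two, map_mul, map_mul] at h
      have hee : q e * q e = 1 := by rw [← map_mul, hE.2 e he, map_one]
      have htt : q t * q t = 1 := by rw [← map_mul, ht2, map_one]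
      calc q t * q e = q e * (q e * q t * (q e * q t)) * q t := by
            rw [show q e * (q e * q t * (q e * q t)) * q t =
              q e * q e * q t * q e * (q t * q t) by group, hee, htt, one_mul, mul_one]
        _ = q e * q t := by rw [h, mul_one]
    have hy : π (x * x) = a * a := by rw [map_mul, hx]
    have haa : (a * a) ^ 3 = 1 := by rw [← pow_two, ← pow_mul, mul_comm, pow_mul, r1, one_pow]
    have haa1 : a * a ≠ 1 := by rw [ha]; decide
    let f : π.ker → π.ker := fun e => ⟨(x * x)⁻¹ * e.1 * (x * x) * e.1⁻¹, MonoidHom.mem_ker.mpr (by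
      rw [map_mul, map_mul, map_mul, map_inv π e.1, MonoidHom.mem_ker.mp e.2, map_inv, inv_one,
        mul_one, mul_one, inv_mul_cancel])⟩
    have hf : Function.Injective f := by
      intro e e' hee
      have h1 : (x * x)⁻¹ * e.1 * (x * x) * e.1⁻¹ = (x * x)⁻¹ * e'.1 * (x * x) * e'.1⁻¹ :=
        congrArg Subtype.val hee
      have h2 : (x * x)⁻¹ * e.1 * (x * x) = (x * x)⁻¹ * e'.1 * (x * x) * (e'.1⁻¹ * e.1) := by
        calc (x * x)⁻¹ * e.1 * (x * x) = (x * x)⁻¹ * e.1 * (x * x) * e.1⁻¹ * e.1 := by group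
          _ = _ := by rw [h1]; group
      have hc : Commute (e'.1⁻¹ * e.1) (x * x) := by
        calc e'.1⁻¹ * e.1 * (x * x)
            = (x * x) * (((x * x)⁻¹ * e'.1 * (x * x))⁻¹ * ((x * x)⁻¹ * e.1 * (x * x))) := by group
          _ = x * x * (((x * x)⁻¹ * e'.1 * (x * x))⁻¹ *
                ((x * x)⁻¹ * e'.1 * (x * x) * (e'.1⁻¹ * e.1))) := by rw [h2]
          _ = x * x * (e'.1⁻¹ * e.1) := by simp [mul_assoc]
      exact Subtype.ext (inv_mul_eq_one.mp (kernel_fpf hO hE hy (Or.inl rfl) haa haa1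
        (MonoidHom.mem_ker.mp (mul_mem (inv_mem e'.2) e.2)) hc)).symm
    obtain ⟨e, he⟩ := Finite.surjective_of_injective hf ⟨d, hd⟩
    have he' : (x * x)⁻¹ * e.1 * (x * x) * e.1⁻¹ = d := congrArg Subtype.val he
    have key : Commute (q (x * x)) (q e.1) := by
      have hn : x⁻¹ * e.1 * x ∈ π.ker := by
        simpa using (inferInstance : π.ker.Normal).conj_mem _ e.2 x⁻¹
      have c1 := hfix _ e.2
      have c2 := hfix _ hn
      have hxi : q t * q x = (q x)⁻¹ * q t := by
        rw [← map_inv, ← hinv, ← map_mul, ← map_mul]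
        congr 1
        group
      have hxi' : q x * q t = q t * (q x)⁻¹ := by
        calc q x * q t = q x * (q t * q x) * (q x)⁻¹ := by group
          _ = q t * (q x)⁻¹ := by rw [hxi]; group
      rw [map_mul, map_mul, map_inv] at c2
      have h3 : q x * q e.1 * (q x)⁻¹ * q t = (q x)⁻¹ * q e.1 * q x * q t := by
        calc q x * q e.1 * (q x)⁻¹ * q t = q x * q e.1 * (q t * q x) := by rw [hxi]; group
          _ = q x * (q e.1 * q t) * q x := by group
          _ = q x * q t * q e.1 * q x := by rw [← c1.eq]; group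
          _ = q t * ((q x)⁻¹ * q e.1 * q x) := by rw [hxi']; group
          _ = (q x)⁻¹ * q e.1 * q x * q t := c2.eq
      have h4 := mul_right_cancel h3
      calc q (x * x) * q e.1 = q x * (q x * q e.1 * (q x)⁻¹) * q x := by rw [map_mul]; group
        _ = q e.1 * q (x * x) := by rw [h4, map_mul]; group
    show q d = 1
    rw [← he', map_mul, map_mul, map_mul, map_inv, map_inv, mul_assoc ((q (x * x))⁻¹),
      ← key.eq, inv_mul_cancel_left, mul_inv_cancel]
  have hs : π (d * t) = c := by rw [map_mul, hd, one_mul, ht]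
  have hmem : (d * t) ^ 2 ∈ π.ker := MonoidHom.mem_ker.mpr (by rw [map_pow, hs, pow_two, hcc])
  intro k hk
  simp only [Set.mem_insert_iff, Set.mem_singleton_iff] at hk
  rcases hk with rfl | rfl | rfl | rfl | rfl
  · exact ⟨1, orderOf_one⟩
  · haveI := Fact.mk Nat.prime_two
    exact ⟨q t, orderOf_eq_prime (by rw [← map_pow, pow_two, ht2, map_one]) hqt⟩
  · haveI := Fact.mk Nat.prime_three
    exact ⟨q x, orderOf_eq_prime (by rw [← map_pow, lift_pow hO hx (Or.inl rfl) r1 hane, map_one])
      fun h => hane (hx.symm.trans (hker x h))⟩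
  · haveI := Fact.mk Nat.prime_two
    refine ⟨q (d * t), orderOf_eq_prime_pow (p := 2) (n := 1) ?_ ?_⟩
    · rw [← map_pow]; exact hdt
    · rw [show (2 : ℕ) ^ (1 + 1) = 2 * 2 from rfl, pow_mul, ← map_pow, ← map_pow, pow_two,
        hE.2 _ hmem, map_one]
  · haveI := Fact.mk (show Nat.Prime 5 by norm_num)
    obtain ⟨w, hw⟩ : 5 ∈ Set.range (orderOf : G → ℕ) := by rw [hrange]; simp
    have hw1 : w ^ 5 = 1 := hw ▸ pow_orderOf_eq_one w
    refine ⟨q w, orderOf_eq_prime (by rw [← map_pow, hw1, map_one]) fun h => ?_⟩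
    have h2 : w ^ 2 = 1 := by rw [pow_two]; exact hE.2 w (MonoidHom.mem_ker.mpr (hker w h))
    have := orderOf_dvd_of_pow_eq_one h2
    rw [hw] at this
    omega

/-- The classification of the critical groups. -/
theorem critical_classification
    (hrange : Set.range (orderOf : G → ℕ) = ({1, 2, 3, 4, 5} : Set ℕ))
    (hmin : ∀ (M : Subgroup G) [M.Normal], M ≠ ⊥ →
      Set.range (orderOf : G ⧸ M → ℕ) ≠ ({1, 2, 3, 4, 5} : Set ℕ)) :
    Nonempty (G ≃* alternatingGroup (Fin 6)) ∨
      Nonempty (G ≃* Perm.AffineSpectrum.aff (GaloisField 2 2)) := by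
  classical
  have hle5 : ∀ g : G, orderOf g ≤ 5 := fun g => by
    have : orderOf g ∈ ({1, 2, 3, 4, 5} : Set ℕ) := hrange ▸ ⟨g, rfl⟩
    simp only [Set.mem_insert_iff, Set.mem_singleton_iff] at this
    omega
  have hO : Ord5 G := ord5_of_range hle5
  have dvd : ∀ k, k ∈ ({1, 2, 3, 4, 5} : Set ℕ) → k ∣ Nat.card G := fun k hk => by
    obtain ⟨g, hg⟩ := hrange.ge hk
    exact hg ▸ orderOf_dvd_natCard g
  have hns := not_solvable_of_orders hO (dvd 2 (by simp)) (dvd 3 (by simp)) (dvd 5 (by simp))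
  rcases structure_of_nonsolvable hO hns with h | ⟨N, hN, hE, ⟨e⟩⟩
  · exact Or.inl h
  refine Or.inr ?_
  set π : G →* A5 := e.toMonoidHom.comp (QuotientGroup.mk' N) with hπdef
  have hπ : Function.Surjective π := e.surjective.comp (QuotientGroup.mk'_surjective N)
  have hker : π.ker = N := by
    ext g
    simp [hπdef]
  have hE' : Elem π.ker := hker.symm ▸ hE
  have hN1 : N ≠ ⊥ := by
    intro h
    obtain ⟨g, hg⟩ : 4 ∈ Set.range (orderOf : G → ℕ) := by rw [hrange]; simp
    have h2 := a5_sq_of_pow_four (π g) (by rw [← map_pow, ← hg, pow_orderOf_eq_one, map_one])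
    rw [← map_pow, ← MonoidHom.mem_ker, hker, h, Subgroup.mem_bot] at h2
    have := orderOf_dvd_of_pow_eq_one h2
    rw [hg] at this
    omega
  obtain ⟨σ, hσ⟩ := exists_section hO hE' hπ
  haveI : Fintype (GaloisField 2 2) := Fintype.ofFinite _
  have hF : Fintype.card (GaloisField 2 2) = 4 := by
    rw [← Nat.card_eq_fintype_card, GaloisField.card 2 2 two_ne_zero]; rfl
  haveI : CharP (GaloisField 2 2) 2 := char_two_of_card hF
  obtain ⟨e₂⟩ := SmallIso.psl_two_card_four (F := GaloisField 2 2) hF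
  let eS : Matrix.SpecialLinearGroup (Fin 2) (GaloisField 2 2) ≃* A5 :=
    ((QuotientGroup.quotientBot).symm.trans (QuotientGroup.quotientMulEquivOfEq
      (SL2.center_eq_bot (F := GaloisField 2 2)).symm)).trans e₂
  refine nonempty_equiv_aff (κ := σ.comp eS.toMonoidHom) (N := N) hF hE.1 hE.2 hN1 (fun A hA => ?_)
    (fun g => ⟨eS.symm (π g), ?_⟩) (fun C hC hC1 d hd hfix => ?_) (fun M hM hMN hM1 => ?_)
  · rw [← hker, MonoidHom.mem_ker] at hA
    simpa [hσ] using hA
  · rw [← hker, MonoidHom.mem_ker]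
    simp [hσ]
  · refine kernel_fpf hO hE' (g := σ (eS C)) (hσ _) (Or.inl rfl) (by rw [← map_pow, hC, map_one])
      (fun h => hC1 (eS.injective (h.trans (map_one eS).symm))) (hker.ge hd) ?_
    calc d * σ (eS C) = σ (eS C) * d * (σ (eS C))⁻¹ * σ (eS C) := by
          rw [show σ (eS C) * d * (σ (eS C))⁻¹ = d from hfix]
      _ = σ (eS C) * d := by rw [inv_mul_cancel_right]
  · by_contra hne
    haveI := hM
    refine hmin M hM1 (range_orderOf_quotient hrange hπ hE' (QuotientGroup.mk' M)
      (QuotientGroup.mk'_surjective M) ?_ ?_)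
    · rw [QuotientGroup.ker_mk', hker]; exact hMN
    · rw [QuotientGroup.ker_mk', hker]; exact hne

end CfsgLib.SpecCrit
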