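import Cfsg.Agent.SpecFive.Main
import Cfsg.Agent.Dickson.Icosahedral

/-!
# A complement of an elementary abelian kernel over `A₅` when all element orders are at most five
-/

set_option autoImplicit false

namespace CfsgLib.SpecCrit

open CfsgLib.SpecFive

variable {G : Type*} [Group G]

section

variable (h : Ord5 G) {π : G →* A5} (hE : Elem π.ker)
include h

/-- A preimage of an element of order three or five has the same order. -/
theorem lift_pow {g : G} {z : A5} (hg : π g = z) {m : ℕ} (hm : m = 3 ∨ m = 5) (hz : z ^ m = 1)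
    (hz1 : z ≠ 1) : g ^ m = 1 := by
  obtain ⟨l, hl, hl'⟩ := h.exists_exp g
  have hzl : z ^ l = 1 := by rw [← hg, ← map_pow, hl', map_one]
  by_cases he : l = m
  · exact he ▸ hl'
  · exact absurd (eq_one_of_pow_coprime (coprime_of_ne (by omega) hl (Ne.symm he)) hz hzl) hz1

include hE

/-- A preimage of an element of order three or five centralises no non-trivial element of the
kernel. -/
theorem kernel_fpf {g : G} {z : A5} (hg : π g = z) {m : ℕ} (hm : m = 3 ∨ m = 5) (hz : z ^ m = 1)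
    (hz1 : z ≠ 1) {d : G} (hd : π d = 1) (hc : Commute d g) : d = 1 := by
  have hg' := lift_pow h hg hm hz hz1
  have hdg : π (d * g) = z := by rw [map_mul, hd, one_mul, hg]
  have h' := lift_pow h hdg hm hz hz1
  rw [hc.mul_pow, hg', mul_one] at h'
  have h2 : d ^ 2 = 1 := by rw [pow_two]; exact hE.2 d hd
  refine eq_one_of_pow_coprime ?_ h2 h'
  rcases hm with rfl | rfl <;> decide

/-- An involution inverting an element of order three lifts to one inverting any given preimage. -/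
theorem exists_lift [Finite G] (hπ : Function.Surjective π) {z s : A5} (hz : z ^ 3 = 1)
    (hz1 : z ≠ 1) (hs : s * s = 1) (hsz : s * z * s⁻¹ = z⁻¹) {x : G} (hx : π x = z) :
    ∃ g : G, π g = s ∧ g * x * g⁻¹ = x⁻¹ ∧ g * g = 1 := by
  haveI hn : π.ker.Normal := inferInstance
  let f : π.ker → π.ker := fun d => ⟨x⁻¹ * d.1 * x * d.1⁻¹, MonoidHom.mem_ker.mpr (by
    rw [map_mul, map_mul, map_mul, map_inv π d.1, MonoidHom.mem_ker.mp d.2, map_inv, inv_one,
      mul_one, mul_one, inv_mul_cancel])⟩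
  have hf : Function.Injective f := by
    intro d d' hdd
    have e : x⁻¹ * d.1 * x * d.1⁻¹ = x⁻¹ * d'.1 * x * d'.1⁻¹ := congrArg Subtype.val hdd
    have hc : Commute (d'.1⁻¹ * d.1) x := by
      have h1 : d'.1⁻¹ * x⁻¹ = x⁻¹ * (x * d'.1⁻¹ * x⁻¹) := by group
      have h2 : x⁻¹ * d'.1⁻¹ * x * (x⁻¹ * d.1 * x) = d'.1⁻¹ * d.1 := by
        have h3 : x⁻¹ * d.1 * x = x⁻¹ * d'.1 * x * (d'.1⁻¹ * d.1) := by
          rw [← mul_assoc, ← e, inv_mul_cancel_right]
        rw [h3]; group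
      have h4 : x⁻¹ * (d'.1⁻¹ * d.1) * x = d'.1⁻¹ * d.1 := by
        conv_rhs => rw [← h2]
        group
      calc d'.1⁻¹ * d.1 * x = x * (x⁻¹ * (d'.1⁻¹ * d.1) * x) := by group
        _ = x * (d'.1⁻¹ * d.1) := by rw [h4]
    have h5 := kernel_fpf h hE hx (Or.inl rfl) hz hz1
      (MonoidHom.mem_ker.mp (mul_mem (inv_mem d'.2) d.2)) hc
    exact Subtype.ext (inv_mul_eq_one.mp h5).symm
  obtain ⟨g₀, hg₀⟩ := hπ s
  have hn0 : g₀ * x * g₀⁻¹ * x ∈ π.ker := MonoidHom.mem_ker.mpr (by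
    rw [map_mul, map_mul, map_mul, map_inv, hg₀, hx, hsz, inv_mul_cancel])
  obtain ⟨d, hd⟩ := Finite.surjective_of_injective hf ⟨_, hn0⟩
  have hd' : x⁻¹ * d.1 * x * d.1⁻¹ = g₀ * x * g₀⁻¹ * x := congrArg Subtype.val hd
  have hc : x⁻¹ * d.1 * x * d.1⁻¹ = d.1⁻¹ * (x⁻¹ * d.1 * x) :=
    ((hE.1 _ (inv_mem d.2) _ (by simpa using hn.conj_mem _ d.2 x⁻¹)).eq).symm
  have hinv : d.1 * g₀ * x * (d.1 * g₀)⁻¹ = x⁻¹ := by
    have e1 : g₀ * x * g₀⁻¹ = d.1⁻¹ * (x⁻¹ * d.1 * x) * x⁻¹ := by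
      rw [← hc, hd', mul_inv_cancel_right]
    calc d.1 * g₀ * x * (d.1 * g₀)⁻¹ = d.1 * (g₀ * x * g₀⁻¹) * d.1⁻¹ := by group
      _ = x⁻¹ := by rw [e1]; group
  have hg : π (d.1 * g₀) = s := by rw [map_mul, MonoidHom.mem_ker.mp d.2, one_mul, hg₀]
  refine ⟨d.1 * g₀, hg, hinv, ?_⟩
  set g := d.1 * g₀ with hgdef
  refine kernel_fpf h hE hx (Or.inl rfl) hz hz1 (by rw [map_mul, hg, hs]) ?_
  have e2 : g * x⁻¹ * g⁻¹ = x := by
    have := congrArg (·⁻¹) hinv
    simpa [mul_assoc] using this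
  calc g * g * x = g * (g * x * g⁻¹) * g := by group
    _ = g * x⁻¹ * g⁻¹ * (g * g) := by rw [hinv]; group
    _ = x * (g * g) := by rw [e2]

/-- The kernel has a complement. -/
theorem exists_section [Finite G] (hπ : Function.Surjective π) :
    ∃ σ : A5 →* G, ∀ a, π (σ a) = a := by
  obtain ⟨r1, r2, r3, r12, r23, r13, h23ne, h2ne, -, -⟩ := Dickson.alt5Gen_rel
  set a := Dickson.alt5Gen 0 with ha
  set b := Dickson.alt5Gen 1 with hb
  set c := Dickson.alt5Gen 2 with hc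
  have hane : a ≠ 1 := by rw [ha]; decide
  have hw : (a * b * c) ^ 5 = 1 := by rw [ha, hb, hc]; decide +kernel
  have hw1 : a * b * c ≠ 1 := by rw [ha, hb, hc]; decide
  have hab : a * b ≠ 1 := by rw [ha, hb]; decide
  have hbb : b * b = 1 := by rw [← pow_two]; exact r2
  have hcc : c * c = 1 := by rw [← pow_two]; exact r3
  have hbi : b⁻¹ = b := inv_eq_of_mul_eq_one_right hbb
  have hci : c⁻¹ = c := inv_eq_of_mul_eq_one_right hcc
  have hca : c * a * c⁻¹ = a⁻¹ := by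
    refine eq_inv_of_mul_eq_one_right ?_
    rw [hci, ← mul_assoc, ← mul_assoc, mul_assoc (a * c), ← pow_two]
    exact r13
  have hbz : b * (b * c) * b⁻¹ = (b * c)⁻¹ := by rw [← mul_assoc, hbb, one_mul, mul_inv_rev, hci]
  obtain ⟨x, hx⟩ := hπ a
  obtain ⟨g₃, hg₃, hinv, hg₃2⟩ := exists_lift h hE hπ r1 hane hcc hca hx
  obtain ⟨w, hw'⟩ := hπ (b * c)
  obtain ⟨g₂, hg₂, -, hg₂2⟩ := exists_lift h hE hπ r23 h23ne hbb hbz hw'
  have h13 : (x * g₃) ^ 2 = 1 := by
    have hi : g₃⁻¹ = g₃ := inv_eq_of_mul_eq_one_right hg₃2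
    calc (x * g₃) ^ 2 = x * (g₃ * x * g₃⁻¹) * (g₃ * g₃) := by rw [pow_two]; group
      _ = 1 := by rw [hinv, hg₃2, mul_inv_cancel, mul_one]
  have hx1 : x ≠ 1 := fun e => hane (by rw [← hx, e, map_one])
  have hxgg1 : x * g₂ * g₃ ≠ 1 := fun e => hw1 (by rw [← hx, ← hg₂, ← hg₃, ← map_mul, ← map_mul, e, map_one])
  obtain ⟨e⟩ := Dickson.icosahedral x g₂ g₃ (lift_pow h hx (Or.inl rfl) r1 hane) hg₂2 hg₃2
    (lift_pow h (by rw [map_mul, hx, hg₂]) (Or.inl rfl) r12 hab)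
    (lift_pow h (by rw [map_mul, hg₂, hg₃]) (Or.inl rfl) r23 h23ne) h13 hx1
    (lift_pow h (by rw [map_mul, map_mul, hx, hg₂, hg₃]) (Or.inr rfl) hw hw1) hxgg1
  set K := Subgroup.closure ({x, g₂, g₃} : Set G) with hK
  set ψ : A5 →* A5 := (π.comp K.subtype).comp e.symm.toMonoidHom with hψ
  haveI : IsSimpleGroup A5 := alternatingGroup.isSimpleGroup_five
  have hψ1 : ψ.ker = ⊥ := by
    refine (IsSimpleGroup.eq_bot_or_eq_top_of_normal _ inferInstance).resolve_right fun ht => hane ?_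
    have hxK : x ∈ K := Subgroup.subset_closure (by simp)
    have := ht.ge (Subgroup.mem_top (e ⟨x, hxK⟩))
    rw [MonoidHom.mem_ker] at this
    simpa [hψ, hx] using this
  have hinj : Function.Injective ψ := (MonoidHom.ker_eq_bot_iff ψ).mp hψ1
  let Ψ : A5 ≃* A5 := MulEquiv.ofBijective ψ ⟨hinj, Finite.surjective_of_injective hinj⟩
  refine ⟨((K.subtype).comp e.symm.toMonoidHom).comp Ψ.symm.toMonoidHom, fun u => ?_⟩
  exact Ψ.apply_symm_apply u

end

end CfsgLib.SpecCrit
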